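import Mathlib
import Cfsg.Agent.Lib.Helper58.QSim.Defs
import Cfsg.Agent.Lib.Helper40.Diag

/-!
# QSim (S5981), package [I1]: bad diagonal elements for `r ∣ q - 1`.
-/

set_option autoImplicit false
set_option linter.unusedSimpArgs false
open scoped MatrixGroups Matrix

namespace Cfsg.Agent.Lib.Helper61.QSim

open Cfsg.Agent.Lib.Helper40 Cfsg.Agent.Lib.Helper58.QSim

universe u

/-- A diagonal matrix whose multiset of eigenvalues has no symmetry `a ↦ μ / a` is not conjugate
into the similarity group. -/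
theorem diag_bad_list (hRank : PkgRank.{u}) {F : Type u} [Field F] [DecidableEq F] (n r : ℕ)
    (Q : (Fin n → F) → F) (hQ : Cfsg.Geo.IsNondegenerateQuadraticForm Q)
    (L : List F) (hL : L.length = n) (hprod : L.prod = 1)
    (z : F) (hz : ∀ a ∈ L, a ^ r = z) (hns : ∃ a ∈ L, ∃ b ∈ L, a ≠ b)
    (hbad : ¬ ∃ μ : F, μ ≠ 0 ∧ ∀ a : F, a ≠ 0 → L.count a = L.count (μ / a)) :
    ∃ x : GL (Fin n) F, Elt n F r x ∧ ¬ Conj Q x := by
  subst hL
  set d : Fin L.length → F := fun j => L[j.1] with hd
  have hdet : (Matrix.diagonal d).det = 1 := by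
    rw [Matrix.det_diagonal, ← hprod]
    exact Fin.prod_univ_getElem L
  let x : GL (Fin L.length) F :=
    Matrix.GeneralLinearGroup.mkOfDetNeZero (Matrix.diagonal d) (by rw [hdet]; exact one_ne_zero)
  have hx : (x : Matrix (Fin L.length) (Fin L.length) F) = Matrix.diagonal d := rfl
  have hcount : ∀ a : F, Fintype.card {i // d i = a} = L.count a := by
    intro a
    have h1 : Multiset.map d Finset.univ.val = (L : Multiset F) := by
      rw [Fin.univ_val_map]
      show ((List.ofFn L.get : List F) : Multiset F) = L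
      rw [List.ofFn_get]
    rw [Fintype.card_subtype, ← Multiset.coe_count, ← h1, Multiset.count_map, Finset.card_def,
      Finset.filter_val]
    congr 1
    apply Multiset.filter_congr
    intro i _
    exact eq_comm
  refine ⟨x, ⟨?_, ⟨z, ?_⟩, ?_⟩, ?_⟩
  · rw [Cfsg.Geo.specialLinear, MonoidHom.mem_ker]
    apply Units.ext
    rw [Matrix.GeneralLinearGroup.val_det_apply]
    exact hdet
  · rw [Units.val_pow_eq_pow_val, hx, Matrix.diagonal_pow, Matrix.smul_one_eq_diagonal]
    congr 1
    funext j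
    exact hz _ (List.getElem_mem _)
  · intro c hc
    obtain ⟨a, ha, b, hb, hab⟩ := hns
    obtain ⟨i, hi, rfl⟩ := List.getElem_of_mem ha
    obtain ⟨j, hj, rfl⟩ := List.getElem_of_mem hb
    have hall : ∀ k : Fin L.length, d k = c := by
      intro k
      have h1 := congrFun (congrFun hc k) k
      rw [hx] at h1
      simpa [Matrix.smul_apply] using h1
    exact hab ((hall ⟨i, hi⟩).trans (hall ⟨j, hj⟩).symm)
  · intro hC
    obtain ⟨μ, hμ, hμr⟩ := hRank F L.length Q x hQ hC
    apply hbad
    refine ⟨μ, hμ, fun a ha => ?_⟩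
    have h1 := hμr a ha
    have h2 := Diag.rank_diagonal_sub d a
    have h3 := Diag.rank_diagonal_sub d (μ / a)
    have h4 : (sh x a).rank = (Matrix.diagonal d - a • (1 : Matrix (Fin L.length) (Fin L.length) F)).rank := rfl
    have h5 : (sh x (μ / a)).rank =
        (Matrix.diagonal d - (μ / a) • (1 : Matrix (Fin L.length) (Fin L.length) F)).rank := rfl
    rw [← hcount, ← hcount]
    omega

/-- Elements of prescribed order in a finite field. -/
theorem exists_elt_order {F : Type u} [Field F] [Fintype F] (N : ℕ)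
    (hN : N ∣ Fintype.card F - 1) : ∃ l : F, l ≠ 0 ∧ orderOf l = N := by
  classical
  have hq : 2 ≤ Fintype.card F := Fintype.one_lt_card
  obtain ⟨g, hg⟩ := IsCyclic.exists_generator (α := Fˣ)
  have h1 : orderOf g = Fintype.card F - 1 := by
    rw [orderOf_eq_card_of_forall_mem_zpowers hg, Nat.card_eq_fintype_card, Fintype.card_units]
  have hN0 : N ≠ 0 := by
    rintro rfl
    rw [zero_dvd_iff] at hN
    omega
  obtain ⟨m, hm⟩ := hN
  have hm0 : m ≠ 0 := by
    rintro rfl
    rw [mul_zero] at hm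
    omega
  refine ⟨((g ^ m : Fˣ) : F), Units.ne_zero _, ?_⟩
  rw [orderOf_units, orderOf_pow_of_dvd hm0 (by rw [h1, hm]; exact Dvd.intro_left _ rfl), h1, hm]
  exact Nat.mul_div_cancel _ (Nat.pos_of_ne_zero hm0)

theorem pow_inj_lt {F : Type u} [Field F] {l : F} {N a b : ℕ} (hl : l ≠ 0) (hord : orderOf l = N)
    (ha : a < N) (hb : b < N) (h : l ^ a = l ^ b) : a = b := by
  wlog hab : a ≤ b generalizing a b
  · exact (this hb ha h.symm (by omega)).symm
  have h1 : l ^ (b - a) = 1 := by
    have h2 : l ^ a * l ^ (b - a) = l ^ a * 1 := by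
      rw [← pow_add, mul_one, Nat.add_sub_cancel' hab, h]
    exact mul_left_cancel₀ (pow_ne_zero _ hl) h2
  have h3 := orderOf_dvd_of_pow_eq_one h1
  rw [hord] at h3
  have h4 := Nat.eq_zero_of_dvd_of_lt h3 (by omega)
  omega

/-- Case (a): `r ≥ 5`, not `n = r = 5`: `diag(ζ, ζ, ζ⁻², 1, …, 1)`. -/
theorem caseA (hRank : PkgRank.{u}) {F : Type u} [Field F] [DecidableEq F] (n r : ℕ)
    (Q : (Fin n → F) → F) (hQ : Cfsg.Geo.IsNondegenerateQuadraticForm Q) (hr : r.Prime)
    (hr5 : 5 ≤ r) (hn : 3 ≤ n) (hnr : ¬ (n = 5 ∧ r = 5)) (ζ : F) (hζ0 : ζ ≠ 0)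
    (hord : orderOf ζ = r) :
    ∃ x : GL (Fin n) F, Elt n F r x ∧ ¬ Conj Q x := by
  have hζr : ζ ^ r = 1 := by rw [← hord]; exact pow_orderOf_eq_one ζ
  have h1 : ζ ≠ ζ ^ (r - 2) := by
    intro h
    have := pow_inj_lt hζ0 hord (a := 1) (b := r - 2) (by omega) (by omega)
      (by rw [pow_one]; exact h)
    omega
  have h2 : ζ ≠ 1 := by
    intro h
    have := pow_inj_lt hζ0 hord (a := 1) (b := 0) (by omega) (by omega)
      (by rw [pow_one, pow_zero]; exact h)
    omega
  have h3 : ζ ^ (r - 2) ≠ 1 := by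
    intro h
    have := pow_inj_lt hζ0 hord (a := r - 2) (b := 0) (by omega) (by omega)
      (by rw [pow_zero]; exact h)
    omega
  set L : List F := ζ :: ζ :: ζ ^ (r - 2) :: List.replicate (n - 3) 1 with hLdef
  have cnt : ∀ b : F, L.count b = (if b = ζ then 2 else 0) + (if b = ζ ^ (r - 2) then 1 else 0) +
      (if b = 1 then n - 3 else 0) := by
    intro b
    simp only [hLdef, List.count_cons, List.count_replicate, beq_iff_eq]
    by_cases ha : b = ζ
    · subst ha
      simp [h1, h2, h3, Ne.symm h1, Ne.symm h2, Ne.symm h3]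
    · by_cases hb : b = ζ ^ (r - 2)
      · subst hb
        simp [h1, h2, h3, Ne.symm h1, Ne.symm h2, Ne.symm h3]
      · by_cases hc : b = 1
        · subst hc
          simp [h1, h2, h3, Ne.symm h1, Ne.symm h2, Ne.symm h3]
        · simp [ha, hb, hc, Ne.symm ha, Ne.symm hb, Ne.symm hc]
  have cζ : L.count ζ = 2 := by rw [cnt]; simp [h1, h2]
  have cw : L.count (ζ ^ (r - 2)) = 1 := by rw [cnt]; simp [h1.symm, h3]
  refine diag_bad_list hRank n r Q hQ L ?_ ?_ 1 ?_ ⟨ζ, ?_, ζ ^ (r - 2), ?_, h1⟩ ?_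
  · simp only [hLdef, List.length_cons, List.length_replicate]
    omega
  · simp only [hLdef, List.prod_cons, List.prod_replicate, one_pow, mul_one]
    rw [← mul_assoc, ← pow_two, ← pow_add, show 2 + (r - 2) = r by omega, hζr]
  · intro a ha
    simp only [hLdef, List.mem_cons, List.mem_replicate] at ha
    rcases ha with rfl | rfl | rfl | ⟨-, rfl⟩
    · exact hζr
    · exact hζr
    · rw [← pow_mul, mul_comm, pow_mul, hζr, one_pow]
    · exact one_pow _
  · simp [hLdef]
  · simp [hLdef]
  · rintro ⟨μ, hμ, key⟩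
    have hA : μ / ζ = ζ ∨ (μ / ζ = 1 ∧ n = 5) := by
      have h := key ζ hζ0
      rw [cζ, cnt] at h
      by_cases ha : μ / ζ = ζ
      · exact Or.inl ha
      · by_cases hc : μ / ζ = 1
        · refine Or.inr ⟨hc, ?_⟩
          have hb : μ / ζ ≠ ζ ^ (r - 2) := by rw [hc]; exact h3.symm
          rw [if_neg ha, if_neg hb, if_pos hc] at h
          omega
        · exfalso
          rw [if_neg ha, if_neg hc] at h
          split_ifs at h <;> omega
    have hB : μ / ζ ^ (r - 2) = ζ ^ (r - 2) ∨ (μ / ζ ^ (r - 2) = 1 ∧ n = 4) := by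
      have h := key (ζ ^ (r - 2)) (pow_ne_zero _ hζ0)
      rw [cw, cnt] at h
      by_cases hb : μ / ζ ^ (r - 2) = ζ ^ (r - 2)
      · exact Or.inl hb
      · by_cases hc : μ / ζ ^ (r - 2) = 1
        · refine Or.inr ⟨hc, ?_⟩
          have ha : μ / ζ ^ (r - 2) ≠ ζ := by rw [hc]; exact h2.symm
          rw [if_neg ha, if_neg hb, if_pos hc] at h
          omega
        · exfalso
          rw [if_neg hb, if_neg hc] at h
          split_ifs at h <;> omega
    have hw0 : ζ ^ (r - 2) ≠ 0 := pow_ne_zero _ hζ0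
    have h5 : ζ ^ (r - 2 + (r - 2)) = ζ ^ (r - 4) := by
      rw [show r - 2 + (r - 2) = r - 4 + r by omega, pow_add, hζr, mul_one]
    rcases hA with hA | ⟨hA, hn5⟩
    · have hμ2 : μ = ζ ^ 2 := by rw [div_eq_iff hζ0] at hA; rw [hA, pow_two]
      rcases hB with hB | ⟨hB, hn4⟩
      · rw [div_eq_iff hw0, hμ2, ← pow_add, h5] at hB
        have := pow_inj_lt hζ0 hord (by omega) (by omega) hB
        have hr6 : r = 6 := by omega
        rw [hr6] at hr
        exact absurd hr (by norm_num)
      · rw [div_eq_iff hw0, one_mul, hμ2] at hB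
        have := pow_inj_lt hζ0 hord (by omega) (by omega) hB
        have hr4 : r = 4 := by omega
        rw [hr4] at hr
        exact absurd hr (by norm_num)
    · have hμ1 : μ = ζ := by rw [div_eq_iff hζ0, one_mul] at hA; exact hA
      rcases hB with hB | ⟨hB, hn4⟩
      · rw [div_eq_iff hw0, hμ1, ← pow_add, h5] at hB
        have := pow_inj_lt hζ0 hord (a := 1) (b := r - 4) (by omega) (by omega)
          (by rw [pow_one]; exact hB)
        exact hnr ⟨hn5, by omega⟩
      · omega

/-- Case (d): `r = 3`, `n ≥ 4`, `n ≠ 6`: `diag(ζ, ζ, ζ, 1, …, 1)`. -/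
theorem caseD (hRank : PkgRank.{u}) {F : Type u} [Field F] [DecidableEq F] (n : ℕ)
    (Q : (Fin n → F) → F) (hQ : Cfsg.Geo.IsNondegenerateQuadraticForm Q)
    (hn : 4 ≤ n) (hn6 : n ≠ 6) (ζ : F) (hζ0 : ζ ≠ 0) (hord : orderOf ζ = 3) :
    ∃ x : GL (Fin n) F, Elt n F 3 x ∧ ¬ Conj Q x := by
  have hζr : ζ ^ 3 = 1 := by rw [← hord]; exact pow_orderOf_eq_one ζ
  have h2 : ζ ≠ 1 := by
    intro h
    have := pow_inj_lt hζ0 hord (a := 1) (b := 0) (by omega) (by omega)
      (by rw [pow_one, pow_zero]; exact h)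
    omega
  set L : List F := ζ :: ζ :: ζ :: List.replicate (n - 3) 1 with hLdef
  have cnt : ∀ b : F, L.count b = (if b = ζ then 3 else 0) + (if b = 1 then n - 3 else 0) := by
    intro b
    simp only [hLdef, List.count_cons, List.count_replicate, beq_iff_eq]
    by_cases ha : b = ζ
    · subst ha
      simp [h2, Ne.symm h2]
    · by_cases hc : b = 1
      · subst hc
        simp [h2, Ne.symm h2]
      · simp [ha, hc, Ne.symm ha, Ne.symm hc]
  have cζ : L.count ζ = 3 := by rw [cnt]; simp [h2]
  have c1 : L.count 1 = n - 3 := by rw [cnt]; simp [Ne.symm h2]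
  refine diag_bad_list hRank n 3 Q hQ L ?_ ?_ 1 ?_ ⟨ζ, ?_, 1, ?_, h2⟩ ?_
  · simp only [hLdef, List.length_cons, List.length_replicate]
    omega
  · simp only [hLdef, List.prod_cons, List.prod_replicate, one_pow, mul_one]
    rw [← hζr]
    ring
  · intro a ha
    simp only [hLdef, List.mem_cons, List.mem_replicate] at ha
    rcases ha with rfl | rfl | rfl | ⟨-, rfl⟩
    · exact hζr
    · exact hζr
    · exact hζr
    · exact one_pow _
  · simp [hLdef]
  · simp only [hLdef, List.mem_cons, List.mem_replicate]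
    right; right; right
    exact ⟨by omega, trivial⟩
  · rintro ⟨μ, hμ, key⟩
    have hμ1 : μ = 1 := by
      have h := key 1 one_ne_zero
      rw [c1, div_one, cnt] at h
      by_contra hne
      rw [if_neg hne] at h
      split_ifs at h <;> omega
    have h := key ζ hζ0
    rw [cζ, cnt, hμ1] at h
    by_cases ha : 1 / ζ = ζ
    · rw [div_eq_iff hζ0] at ha
      have := pow_inj_lt hζ0 hord (a := 0) (b := 2) (by omega) (by omega)
        (by rw [pow_zero, pow_two]; exact ha)
      omega
    · rw [if_neg ha] at h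
      split_ifs at h <;> omega

/-- Cases (b), (c): `n = r`, `r² ∣ q - 1`: `diag(l^(1-r), l, …, l)` with `l` of order `r²`. -/
theorem caseBC (hRank : PkgRank.{u}) {F : Type u} [Field F] [DecidableEq F] (r : ℕ)
    (Q : (Fin r → F) → F) (hQ : Cfsg.Geo.IsNondegenerateQuadraticForm Q) (hr3 : 3 ≤ r)
    (l : F) (hl0 : l ≠ 0) (hord : orderOf l = r * r) :
    ∃ x : GL (Fin r) F, Elt r F r x ∧ ¬ Conj Q x := by
  have hR : 3 * r ≤ r * r := Nat.mul_le_mul_right r hr3
  have hlr : l ^ (r * r) = 1 := by rw [← hord]; exact pow_orderOf_eq_one l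
  set w : F := l ^ (r * r - r + 1) with hw
  have hw0 : w ≠ 0 := pow_ne_zero _ hl0
  have h1 : w ≠ l := by
    intro h
    have := pow_inj_lt hl0 hord (a := r * r - r + 1) (b := 1) (by omega) (by omega)
      (by rw [pow_one]; exact h)
    omega
  have hwl : w * l ^ (r - 1) = 1 := by
    rw [hw, ← pow_add, show r * r - r + 1 + (r - 1) = r * r by omega, hlr]
  set L : List F := w :: List.replicate (r - 1) l with hLdef
  have cnt : ∀ b : F, L.count b = (if b = w then 1 else 0) + (if b = l then r - 1 else 0) := by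
    intro b
    simp only [hLdef, List.count_cons, List.count_replicate, beq_iff_eq]
    by_cases ha : b = w
    · subst ha
      simp [h1, Ne.symm h1]
    · by_cases hc : b = l
      · subst hc
        simp [h1, Ne.symm h1]
      · simp [ha, hc, Ne.symm ha, Ne.symm hc]
  have cl : L.count l = r - 1 := by rw [cnt]; simp [Ne.symm h1]
  have cw : L.count w = 1 := by rw [cnt]; simp [h1]
  refine diag_bad_list hRank r r Q hQ L ?_ ?_ (l ^ r) ?_ ⟨w, ?_, l, ?_, h1⟩ ?_
  · simp only [hLdef, List.length_cons, List.length_replicate]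
    omega
  · simp only [hLdef, List.prod_cons, List.prod_replicate]
    exact hwl
  · intro a ha
    simp only [hLdef, List.mem_cons, List.mem_replicate] at ha
    rcases ha with rfl | ⟨-, rfl⟩
    · have e1 : (r - 1) * r + r = r * r := by
        rw [← Nat.succ_mul, Nat.succ_eq_add_one, Nat.sub_add_cancel (by omega)]
      have e2 : (l ^ (r - 1)) ^ r * l ^ r = 1 := by
        rw [← pow_mul, ← pow_add, e1, hlr]
      calc w ^ r = w ^ r * ((l ^ (r - 1)) ^ r * l ^ r) := by rw [e2, mul_one]
        _ = (w * l ^ (r - 1)) ^ r * l ^ r := by rw [mul_pow, mul_assoc]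
        _ = l ^ r := by rw [hwl, one_pow, one_mul]
    · rfl
  · simp [hLdef]
  · simp only [hLdef, List.mem_cons, List.mem_replicate]
    right
    exact ⟨by omega, trivial⟩
  · rintro ⟨μ, hμ, key⟩
    have hA : μ / l = l := by
      have h := key l hl0
      rw [cl, cnt] at h
      by_contra hne
      rw [if_neg hne] at h
      split_ifs at h <;> omega
    have hμ2 : μ = l ^ 2 := by rw [div_eq_iff hl0] at hA; rw [hA, pow_two]
    have hB : μ / w = w := by
      have h := key w hw0
      rw [cw, cnt] at h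
      by_contra hne
      rw [if_neg hne] at h
      split_ifs at h <;> omega
    rw [div_eq_iff hw0, hμ2, hw, ← pow_add] at hB
    have h5 : l ^ (r * r - r + 1 + (r * r - r + 1)) = l ^ (r * r - 2 * r + 2) := by
      rw [show r * r - r + 1 + (r * r - r + 1) = r * r - 2 * r + 2 + r * r by omega, pow_add, hlr,
        mul_one]
    rw [h5] at hB
    have := pow_inj_lt hl0 hord (by omega) (by omega) hB
    omega

/-- [I1], from [RANK]. -/
theorem pkgI1_of (hRank : PkgRank.{u}) : PkgI1.{u} := by
  intro F _ _ n r Q hr hr2 hodd hn hdvd h63 hexc hQ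
  classical
  have hq : 2 ≤ Fintype.card F := Fintype.one_lt_card
  have hr2' := hr.two_le
  by_cases h5 : 5 ≤ r ∧ ¬ (n = 5 ∧ r = 5)
  · obtain ⟨ζ, hζ0, hord⟩ := exists_elt_order (F := F) r hdvd
    exact caseA hRank n r Q hQ hr h5.1 hn h5.2 ζ hζ0 hord
  · have hcase : r = 3 ∨ (r = 5 ∧ n = 5) := by
      by_cases h : 5 ≤ r
      · right
        have h' := not_and.1 h5 h
        rw [not_not] at h'
        exact ⟨h'.2, h'.1⟩
      · left
        have h34 : r = 3 ∨ r = 4 := by omega
        rcases h34 with h | h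
        · exact h
        · rw [h] at hr
          exact absurd hr (by norm_num)
    have hsq : n = r → r * r ∣ Fintype.card F - 1 := by
      intro hnr
      have hv : padicValNat r (Fintype.card F - 1) ≠ 1 := by
        intro hv
        apply hexc
        refine ⟨?_, hnr, hv⟩
        rcases hcase with h | ⟨h, -⟩
        · exact Or.inl h
        · exact Or.inr h
      have : Fact r.Prime := ⟨hr⟩
      have hne : Fintype.card F - 1 ≠ 0 := by omega
      have h1 : 1 ≤ padicValNat r (Fintype.card F - 1) := one_le_padicValNat_of_dvd hne hdvd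
      rw [← pow_two]
      exact (padicValNat_dvd_iff_le hne).2 (by omega)
    rcases hcase with h3 | ⟨h5r, h5n⟩
    · subst h3
      by_cases hn3 : n = 3
      · subst hn3
        obtain ⟨l, hl0, hord⟩ := exists_elt_order (F := F) (3 * 3) (hsq rfl)
        exact caseBC hRank 3 Q hQ le_rfl l hl0 hord
      · obtain ⟨ζ, hζ0, hord⟩ := exists_elt_order (F := F) 3 hdvd
        exact caseD hRank n Q hQ (by omega) (fun h => h63 ⟨h, rfl⟩) ζ hζ0 hord
    · subst h5r
      subst h5n
      obtain ⟨l, hl0, hord⟩ := exists_elt_order (F := F) (5 * 5) (hsq rfl)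
      exact caseBC hRank 5 Q hQ (by norm_num) l hl0 hord

end Cfsg.Agent.Lib.Helper61.QSim
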